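import Groth.Agent.Lib.AutBound14.Locus
import Groth.Agent.Lib.AmpleFix14.Matrix
import Groth.Agent.Lib.AmpleImm18.Core
import Mathlib.RingTheory.Polynomial.Basic

/-!
# A quasi-compact family containing every automorphism which fixes a very ample module
-/

set_option autoImplicit false
set_option linter.style.haveILetI false
set_option linter.unusedSectionVars false
set_option backward.isDefEq.respectTransparency false
set_option backward.isDefEq.respectTransparency.types false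
universe u

open CategoryTheory CategoryTheory.Limits MonoidalCategory CartesianMonoidalCategory MonObj AlgebraicGeometry
open TopologicalSpace Topology

noncomputable section

namespace Groth.Agent.AutBound14

open Groth.Agent.Amp (Gen gm)
open Groth.Agent.ModLimH13 (res')
open Sumihiro14 (loc mem_loc_iff vl slice)
open AmpleFix14 (op gen_op_iff)
open DiagGL (alg)

variable {k : Type u} [Field k]

/-- Affine spaces as parameter schemes. -/
theorem exists_param (I : Type u) [Finite I] :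
    ∃ (Y : Over (Spec (CommRingCat.of k))) (c : I → Γ(Y.left, ⊤)), IsNoetherian Y.left ∧
      LocallyOfFiniteType Y.hom ∧ IsSeparated Y.hom ∧
      ∀ v : I → k, ∃ t : 𝟙_ (Over (Spec (CommRingCat.of k))) ⟶ Y, ∀ i, vl t (c i) = v i := by
  let R := MvPolynomial I k
  let φ₀ : CommRingCat.of k ⟶ CommRingCat.of R := CommRingCat.ofHom (algebraMap k R)
  haveI : LocallyOfFiniteType (Spec.map φ₀) :=
    (HasRingHomProperty.Spec_iff (P := @LocallyOfFiniteType)).mpr
      (RingHom.finiteType_algebraMap.mpr (inferInstanceAs (Algebra.FiniteType k (MvPolynomial I k))))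
  refine ⟨Over.mk (Spec.map φ₀), fun i => (Scheme.ΓSpecIso (CommRingCat.of R)).inv (MvPolynomial.X i),
    inferInstanceAs (IsNoetherian (Spec (CommRingCat.of R))), inferInstanceAs (LocallyOfFiniteType (Spec.map φ₀)),
    inferInstanceAs (IsSeparated (Spec.map φ₀)), fun v => ?_⟩
  let ψ : CommRingCat.of R ⟶ CommRingCat.of k := CommRingCat.ofHom (MvPolynomial.eval₂Hom (RingHom.id k) v)
  have hw : φ₀ ≫ ψ = 𝟙 _ := CommRingCat.hom_ext (RingHom.ext fun a => by
    show MvPolynomial.eval₂Hom (RingHom.id k) v (algebraMap k R a) = a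
    rw [MvPolynomial.algebraMap_eq, MvPolynomial.eval₂Hom_C]
    rfl)
  refine ⟨Over.homMk (Spec.map ψ) (by
    show Spec.map ψ ≫ Spec.map φ₀ = _
    rw [← Spec.map_comp, hw, Spec.map_id]
    rfl), fun i => ?_⟩
  show (Scheme.ΓSpecIso (CommRingCat.of k)).hom
    ((Spec.map ψ).appTop ((Scheme.ΓSpecIso (CommRingCat.of R)).inv (MvPolynomial.X i))) = v i
  rw [← CommRingCat.comp_apply (Spec.map ψ).appTop, Scheme.ΓSpecIso_naturality, CommRingCat.comp_apply]
  erw [Iso.inv_hom_id_apply]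
  exact MvPolynomial.eval₂Hom_X' _ _ _

section coord

variable {W : Scheme.{u}} {n : ℕ}

/-- The coordinates generate at every point. -/
theorem exists_gen_coord (r : W ⟶ CohB1.ProjSpace n k) (y : W) :
    ∃ i, Gen (gm ((Scheme.Modules.pullback r).obj (Twist.twistProjSpace n k 1)) y (U := ⊤) trivial
      (ProjUP.pullSec r (Twist.twistProjSpace n k 1) (ProjUP.coord n k i))) := by
  let 𝒜 := CohB1.polyGrading n k
  have hX : ∀ i : Fin (n + 1), (MvPolynomial.X i : MvPolynomial (Fin (n + 1)) k) ∈ 𝒜 1 := fun i =>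
    MvPolynomial.isHomogeneous_X k i
  obtain ⟨l, hl⟩ := Opens.mem_iSup.1 ((ProjSpace.iSup_basicOpen n k).ge (Opens.mem_top (r y)))
  have hy : y ∈ r ⁻¹ᵁ Proj.basicOpen 𝒜 (MvPolynomial.X l) := hl
  have h1 := (ProjUP.isGen_sec 𝒜 r (hX l)).stalk hy
  rw [M1.germ_mres] at h1
  exact ⟨l, h1⟩

theorem res'_top' {X' P : Scheme.{u}} (g : X' ⟶ P) (M : P.Modules) (v : Γ(M, ⊤)) :
    res' g M (fun _ _ => trivial : (⊤ : X'.Opens) ≤ g ⁻¹ᵁ ⊤) v = M2.pullSec g M v := res'_top g M v _

/-- The twist pulled back along a composite, with sections. -/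
theorem exists_comp_iso {W' : Scheme.{u}} (f : W' ⟶ W) (j : W ⟶ CohB1.ProjSpace n k) :
    ∃ τ : (Scheme.Modules.pullback (f ≫ j)).obj (Twist.twistProjSpace n k 1) ≅
        (Scheme.Modules.pullback f).obj ((Scheme.Modules.pullback j).obj (Twist.twistProjSpace n k 1)),
      ∀ i, τ.hom.app ⊤ (ProjUP.pullSec (f ≫ j) (Twist.twistProjSpace n k 1) (ProjUP.coord n k i)) =
        res' f _ (W := ⊤) (fun _ _ => trivial : (⊤ : W'.Opens) ≤ f ⁻¹ᵁ ⊤)
          (ProjUP.pullSec j (Twist.twistProjSpace n k 1) (ProjUP.coord n k i)) := by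
  let O1 := Twist.twistProjSpace n k 1
  let cm := ModLimH13.cmp f j (rfl : f ≫ j = f ≫ j)
  refine ⟨(cm.app O1).symm, fun i => ?_⟩
  let e₀ : (⊤ : W.Opens) ≤ j ⁻¹ᵁ ⊤ := fun _ _ => trivial
  let e₁ : (⊤ : W'.Opens) ≤ f ⁻¹ᵁ ⊤ := fun _ _ => trivial
  have h' := ModLimH13.cmp_res' f j O1 (rfl : f ≫ j = f ≫ j) e₀ e₁ (ProjUP.coord n k i)
  have h2 : ∀ w h, (cm.inv.app O1).app ⊤ (res' (f ≫ j) O1 (W := ⊤) h w) =
      res' f ((Scheme.Modules.pullback j).obj O1) (W := ⊤) e₁ (res' j O1 (W := ⊤) e₀ w) := by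
    intro w h
    refine (congrArg (fun z => (cm.inv.app O1).app ⊤ z) (ModLimH13.cmp_res' f j O1 (rfl : f ≫ j = f ≫ j) e₀ e₁ w).symm).trans ?_
    exact congrArg (fun α : (Scheme.Modules.pullback f).obj ((Scheme.Modules.pullback j).obj O1) ⟶
      (Scheme.Modules.pullback f).obj ((Scheme.Modules.pullback j).obj O1) =>
      α.app ⊤ (res' f _ (W := ⊤) e₁ (res' j O1 (W := ⊤) e₀ w))) (cm.hom_inv_id_app O1)
  have h3 := h2 (ProjUP.coord n k i) (fun _ _ => trivial)
  rw [res'_top (f ≫ j), res'_top j] at h3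
  exact h3

end coord

variable {Y Y' X : Over (Spec (CommRingCat.of k))}

theorem slice_whisker (t : 𝟙_ (Over (Spec (CommRingCat.of k))) ⟶ Y') (i : Y' ⟶ Y) :
    slice (X := X) t ≫ (i ▷ X) = slice (t ≫ i) := by
  refine CartesianMonoidalCategory.hom_ext _ _ ?_ ?_ <;> simp [slice]

theorem slice_lift_fst (t : 𝟙_ (Over (Spec (CommRingCat.of k))) ⟶ Y) (φ : Y ⊗ X ⟶ X) :
    slice (X := X) t ≫ lift (fst Y X) φ = (slice t ≫ φ) ≫ slice t := by
  refine CartesianMonoidalCategory.hom_ext _ _ ?_ ?_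
  · simp only [Category.assoc, lift_fst]
    simp only [slice, lift_fst, ← Category.assoc]
    congr 1
    exact toUnit_unique _ _
  · simp only [Category.assoc, lift_snd]
    simp [slice]

theorem vl_comp (t : 𝟙_ (Over (Spec (CommRingCat.of k))) ⟶ Y') (i : Y' ⟶ Y) (c : Γ(Y.left, ⊤)) :
    vl t (i.left.appTop c) = vl (t ≫ i) c := by
  rw [vl, vl, Over.comp_left, Scheme.Hom.comp_appTop]
  rfl

variable [IsAlgClosed k]

set_option maxHeartbeats 1000000 in
/-- A quasi-compact family containing every pair of mutually inverse automorphisms fixing a very ample module. -/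
theorem exists_pair [IsIntegral X.left] [IsProper X.hom] {n : ℕ}
    (j : X.left ⟶ CohB1.ProjSpace n k) [IsClosedImmersion j] (hj : j ≫ CohB1.ProjSpace.toSpec n k = X.hom)
    {M : X.left.Modules} (hM : PicF.IsInvertible M)
    (eM : (Scheme.Modules.pullback j).obj (Twist.twistProjSpace n k 1) ≅ M) :
    ∃ (Z : Over (Spec (CommRingCat.of k))) (ψ ψ' : Z ⊗ X ⟶ X), CompactSpace Z.left ∧
      lift (fst Z X) ψ ≫ ψ' = snd Z X ∧ lift (fst Z X) ψ' ≫ ψ = snd Z X ∧
      ∀ f f' : X ⟶ X, f ≫ f' = 𝟙 X → f' ≫ f = 𝟙 X →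
        Nonempty ((Scheme.Modules.pullback f.left).obj M ≅ M) →
        Nonempty ((Scheme.Modules.pullback f'.left).obj M ≅ M) →
        ∃ t : 𝟙_ (Over (Spec (CommRingCat.of k))) ⟶ Z, slice t ≫ ψ = f ∧ slice t ≫ ψ' = f' := by
  classical
  haveI : LocallyOfFiniteType X.hom := inferInstance
  haveI : JacobsonSpace X.left := LocallyOfFiniteType.jacobsonSpace X.hom
  let P : Over (Spec (CommRingCat.of k)) := Over.mk (CohB1.ProjSpace.toSpec n k)
  let J : X ⟶ P := Over.homMk j hj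
  haveI : IsClosedImmersion J.left := inferInstanceAs (IsClosedImmersion j)
  haveI : Mono J := Over.mono_of_mono_left J
  letI : Module k Γ(M, ⊤) := Module.compHom _ (alg X)
  haveI : Module.Finite k Γ(M, ⊤) := NegTwist18.finite_sections X.hom (CubeField.isCoh_of_isInvertible hM)
  let B := Module.Free.chooseBasis k Γ(M, ⊤)
  let N := Module.Free.ChooseBasisIndex k Γ(M, ⊤)
  let s : Fin (n + 1) → Γ(M, ⊤) := fun i =>
    eM.hom.app ⊤ (ProjUP.pullSec j (Twist.twistProjSpace n k 1) (ProjUP.coord n k i))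
  -- the space of parameters
  obtain ⟨A, c₀, hAn, hAlft, hAsep, hpts⟩ := exists_param (k := k) (ULift.{u} Bool × ULift.{u} (Fin (n + 1)) × N)
  haveI := hAn
  haveI := hAlft
  haveI := hAsep
  let cA : Bool → Fin (n + 1) → N → Γ(A.left, ⊤) := fun e i l => c₀ (⟨e⟩, ⟨i⟩, l)
  let σA : Bool → Fin (n + 1) → Γ((Scheme.Modules.pullback (snd A X).left).obj M, ⊤) :=
    fun e i => famSec (cA e i) B
  let C : Bool → Set (A ⊗ X).left := fun e => ⋃ i, (loc (σA e i) : Set (A ⊗ X).left)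
  have hCo : ∀ e, IsOpen (C e) := fun e => isOpen_iUnion fun i => (loc (σA e i)).isOpen
  let U : A.left.Opens := ⟨⋂ e, fibSet (C e), isOpen_iInter_of_finite fun e => isOpen_fibSet (hCo e)⟩
  have hmemU : ∀ t : 𝟙_ (Over (Spec (CommRingCat.of k))) ⟶ A, ptOf t ∈ U ↔
      ∀ (e : Bool) (y : X.left), ∃ i, y ∈ loc (∑ l, alg X (vl t (cA e i l)) • B l) := fun t => by
    show ptOf t ∈ ⋂ e, fibSet (C e) ↔ _
    rw [Set.mem_iInter]
    refine forall_congr' fun e => ?_
    rw [ptOf_mem_fibSet_iff (hCo e).isClosed_compl.isLocallyClosed]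
    refine forall_congr' fun y => ?_
    rw [Set.mem_iUnion]
    refine exists_congr fun i => ?_
    rw [← slTop_famSec, mem_loc_slTop hM]
    exact mem_loc_iff (PicLoc.isInvertible_pullback _ hM)
  let Y : Over (Spec (CommRingCat.of k)) := Over.mk (U.ι ≫ A.hom)
  let u : Y ⟶ A := Over.homMk U.ι rfl
  haveI : LocallyOfFiniteType Y.hom := inferInstanceAs (LocallyOfFiniteType (U.ι ≫ A.hom))
  haveI : IsSeparated Y.hom := inferInstanceAs (IsSeparated (U.ι ≫ A.hom))
  haveI : CompactSpace Y.left :=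
    isCompact_iff_compactSpace.1 (NoetherianSpace.isCompact (U : Set A.left))
  -- the morphisms to projective space
  let c : Bool → Fin (n + 1) → N → Γ(Y.left, ⊤) := fun e i l => u.left.appTop (cA e i l)
  have hgen : ∀ (e : Bool) (t : 𝟙_ (Over (Spec (CommRingCat.of k))) ⟶ Y) (y : X.left),
      ∃ i, y ∈ loc (∑ l, alg X (vl t (c e i l)) • B l) := fun e t y => by
    simp only [c, vl_comp]
    refine (hmemU (t ≫ u)).1 ?_ e y
    show (t.left ≫ U.ι) (IsLocalRing.closedPoint k) ∈ U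
    rw [Scheme.Hom.comp_apply]
    exact Subtype.prop _
  choose r₀ hr₀ hr₀s using fun e : Bool => exists_famMap hM (c e) B (hgen e)
  let r : Bool → (Y ⊗ X ⟶ P) := fun e => Over.homMk (r₀ e) (hr₀ e)
  -- where they land in the variety
  have hJc : IsClosed (Set.range J.left) := J.left.isClosedEmbedding.isClosed_range
  obtain ⟨Z₁, i₁, hi₁, hZ₁r, hi₁r, hZ₁lft⟩ := exists_reduced_sub (Y := Y)
    (C := ⋂ e, fibSet ((r e).left ⁻¹' Set.range J.left))
    (isClosed_iInter fun e => isClosed_fibSet (hJc.preimage (r e).left.continuous))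
  haveI := hi₁
  haveI := hZ₁r
  haveI := hZ₁lft
  haveI : IsReduced (Z₁ ⊗ X).left := PerfProd19.isReduced_tensorObj Z₁ X
  haveI : IsSeparated Z₁.hom := by rw [← Over.w i₁]; infer_instance
  choose φ hφ using fun e : Bool => exists_lift_over ((i₁ ▷ X) ≫ r e) J (by
    rintro _ ⟨z, rfl⟩
    rw [Over.comp_left, Scheme.Hom.comp_apply]
    have h1 : i₁.left ((fst Z₁ X).left z) ∈ ⋂ e', fibSet ((r e').left ⁻¹' Set.range J.left) := hi₁r.le ⟨_, rfl⟩
    refine Set.mem_iInter.1 h1 e _ ?_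
    rw [← Scheme.Hom.comp_apply, ← Over.comp_left, whiskerRight_fst, Over.comp_left, Scheme.Hom.comp_apply])
  -- where the composites are the identity
  let Δ : X ⟶ X ⊗ X := lift (𝟙 X) (𝟙 X)
  haveI : IsClosedImmersion Δ.left := by
    haveI : IsClosedImmersion (Δ.left ≫ (fst X X).left) := by
      rw [← Over.comp_left, lift_fst, Over.id_left]; infer_instance
    haveI : IsSeparated (fst X X).left := inferInstanceAs (IsSeparated (pullback.fst X.hom X.hom))
    exact IsClosedImmersion.of_comp Δ.left (fst X X).left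
  let E : Bool → (Z₁ ⊗ X ⟶ X) := fun e => lift (fst Z₁ X) (φ e) ≫ φ (!e)
  let D : Bool → Set (Z₁ ⊗ X).left := fun e => (lift (E e) (snd Z₁ X)).left ⁻¹' Set.range Δ.left
  have hD : ∀ e, IsClosed (D e) := fun e =>
    Δ.left.isClosedEmbedding.isClosed_range.preimage (lift (E e) (snd Z₁ X)).left.continuous
  obtain ⟨Z₂, i₂, hi₂, hZ₂r, hi₂r, hZ₂lft⟩ := exists_reduced_sub (Y := Z₁) (C := ⋂ e, fibSet (D e))
    (isClosed_iInter fun e => isClosed_fibSet (hD e))
  haveI := hi₂
  haveI := hZ₂r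
  haveI := hZ₂lft
  haveI : IsReduced (Z₂ ⊗ X).left := PerfProd19.isReduced_tensorObj Z₂ X
  haveI : IsSeparated Z₂.hom := by rw [← Over.w i₂]; infer_instance
  let ψ : Bool → (Z₂ ⊗ X ⟶ X) := fun e => (i₂ ▷ X) ≫ φ e
  have hcomp : ∀ e, lift (fst Z₂ X) (ψ e) ≫ ψ (!e) = snd Z₂ X := fun e => by
    have h0 : lift (fst Z₂ X) (ψ e) ≫ ψ (!e) = (i₂ ▷ X) ≫ E e := by
      simp only [ψ, E]
      rw [← Category.assoc, ← Category.assoc (i₂ ▷ X)]
      congr 1
      refine CartesianMonoidalCategory.hom_ext _ _ ?_ ?_ <;> simp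
    have h1 : snd Z₂ X = (i₂ ▷ X) ≫ snd Z₁ X := (whiskerRight_snd i₂ X).symm
    rw [h0, h1]
    haveI : LocallyOfFiniteType (((i₂ ▷ X) ≫ E e).left ≫ X.hom) := by rw [Over.w]; infer_instance
    refine Over.OverMorphism.ext (ext_of_apply_eq X.hom Set.univ isOpen_univ.isLocallyClosed dense_univ
      (fun z _ _ => ?_) (by rw [Over.w, Over.w]))
    rw [Over.comp_left, Over.comp_left, Scheme.Hom.comp_apply, Scheme.Hom.comp_apply]
    have h2 : i₂.left ((fst Z₂ X).left z) ∈ ⋂ e', fibSet (D e') := hi₂r.le ⟨_, rfl⟩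
    obtain ⟨x, hx⟩ : (i₂ ▷ X).left z ∈ D e := Set.mem_iInter.1 h2 e _ (by
      rw [← Scheme.Hom.comp_apply, ← Over.comp_left, whiskerRight_fst, Over.comp_left, Scheme.Hom.comp_apply])
    have ha := congrArg (fst X X).left hx
    have hb := congrArg (snd X X).left hx
    rw [← Scheme.Hom.comp_apply, ← Scheme.Hom.comp_apply, ← Over.comp_left, ← Over.comp_left, lift_fst, lift_fst] at ha
    rw [← Scheme.Hom.comp_apply, ← Scheme.Hom.comp_apply, ← Over.comp_left, ← Over.comp_left, lift_snd, lift_snd] at hb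
    exact ha.symm.trans hb
  refine ⟨Z₂, ψ true, ψ false, ?_, hcomp true, hcomp false, fun f f' hff' hf'f hf hf' => ?_⟩
  · haveI : CompactSpace Z₁.left := i₁.left.isClosedEmbedding.compactSpace
    exact i₂.left.isClosedEmbedding.compactSpace
  let F : Bool → (X ⟶ X) := fun e => if e then f else f'
  have hFiso : ∀ e, F e ≫ F (!e) = 𝟙 X := fun e => by cases e <;> simp [F, hff', hf'f]
  have hFfix : ∀ e, Nonempty ((Scheme.Modules.pullback (F e).left).obj M ≅ M) := fun e => by cases e <;> simp [F, hf, hf']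
  let φM : ∀ e, (Scheme.Modules.pullback (F e).left).obj M ≅ M := fun e => (hFfix e).some
  let v : ULift.{u} Bool × ULift.{u} (Fin (n + 1)) × N → k := fun p =>
    B.repr (op (F p.1.down).left (φM p.1.down).hom (s p.2.1.down)) p.2.2
  obtain ⟨t, ht⟩ := hpts v
  have hsum : ∀ e i, ∑ l, alg X (vl t (cA e i l)) • B l = op (F e).left (φM e).hom (s i) := fun e i => by
    simp only [cA, ht, v]
    exact B.sum_repr _
  have hgens : ∀ y : X.left, ∃ i, Gen (gm M y (U := ⊤) trivial (s i)) := fun y => by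
    obtain ⟨i, hi⟩ := exists_gen_coord j y
    exact ⟨i, (Amp.gen_map_iso eM (U := ⊤) trivial _).2 hi⟩
  have htU : ptOf t ∈ U := (hmemU t).2 fun e y => by
    obtain ⟨i, hi⟩ := hgens ((F e).left y)
    exact ⟨i, by rw [hsum, mem_loc_iff hM, gen_op_iff (F e).left (φM e).hom hM]; exact hi⟩
  obtain ⟨tY, htY⟩ := AmpleFix14.exists_lift_opn U t (AmpleFix14.top_le_preimage t htU)
  have htY' : tY ≫ u = t := htY
  have hslice : ∀ e, slice tY ≫ r e = F e ≫ J := fun e => by
    obtain ⟨τ, hτ⟩ := exists_comp_iso (F e).left j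
    refine Over.OverMorphism.ext (hr₀s e tY ((F e).left ≫ j) (by rw [Category.assoc, hj, Over.w])
      (τ ≪≫ (Scheme.Modules.pullback (F e).left).mapIso eM ≪≫ φM e) fun i => ?_)
    simp only [c, vl_comp, htY', hsum]
    show (φM e).hom.app ⊤ (((Scheme.Modules.pullback (F e).left).map eM.hom).app ⊤ (τ.hom.app ⊤ _)) = _
    rw [hτ]
    show (φM e).hom.app ⊤ (((Scheme.Modules.pullback (F e).left).map eM.hom).app ⊤ (res' _ _ _ _)) = _
    rw [ModLimH13.map_res']
    rfl
  obtain ⟨t₁, ht₁⟩ : ∃ t₁ : 𝟙_ (Over (Spec (CommRingCat.of k))) ⟶ Z₁, t₁ ≫ i₁ = tY := by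
    haveI : IsReduced (𝟙_ (Over (Spec (CommRingCat.of k)))).left := inferInstanceAs (IsReduced (Spec (CommRingCat.of k)))
    refine exists_lift_over tY i₁ ?_
    rintro _ ⟨p, rfl⟩
    obtain rfl : p = IsLocalRing.closedPoint k := @Subsingleton.elim _ (inferInstanceAs (Subsingleton (PrimeSpectrum k))) _ _
    rw [hi₁r, Set.mem_iInter]
    refine fun e => (ptOf_mem_fibSet_iff (hJc.preimage (r e).left.continuous).isOpen_compl.isLocallyClosed tY).2 fun x => ?_
    refine ⟨(F e).left x, ?_⟩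
    rw [← Scheme.Hom.comp_apply, ← Scheme.Hom.comp_apply, ← Over.comp_left, ← Over.comp_left, hslice]
  have hφt : ∀ e, slice t₁ ≫ φ e = F e := fun e => by
    rw [← cancel_mono J, Category.assoc, hφ, ← Category.assoc, slice_whisker, ht₁, hslice]
  obtain ⟨t₂, ht₂⟩ : ∃ t₂ : 𝟙_ (Over (Spec (CommRingCat.of k))) ⟶ Z₂, t₂ ≫ i₂ = t₁ := by
    haveI : IsReduced (𝟙_ (Over (Spec (CommRingCat.of k)))).left := inferInstanceAs (IsReduced (Spec (CommRingCat.of k)))
    refine exists_lift_over t₁ i₂ ?_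
    rintro _ ⟨p, rfl⟩
    obtain rfl : p = IsLocalRing.closedPoint k := @Subsingleton.elim _ (inferInstanceAs (Subsingleton (PrimeSpectrum k))) _ _
    rw [hi₂r, Set.mem_iInter]
    refine fun e => (ptOf_mem_fibSet_iff (hD e).isOpen_compl.isLocallyClosed t₁).2 fun x => ?_
    refine ⟨x, ?_⟩
    have h4 : slice t₁ ≫ lift (E e) (snd Z₁ X) = Δ := by
      rw [comp_lift]
      refine congrArg₂ lift ?_ ?_
      · show slice t₁ ≫ lift (fst Z₁ X) (φ e) ≫ φ (!e) = 𝟙 X
        rw [← Category.assoc, slice_lift_fst, Category.assoc, hφt, hφt, hFiso]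
      · exact lift_snd _ _
    rw [← Scheme.Hom.comp_apply, ← Over.comp_left, h4]
  have hψ : ∀ e, slice t₂ ≫ ψ e = F e := fun e => by
    simp only [ψ]
    rw [← Category.assoc, slice_whisker, ht₂, hφt]
  exact ⟨t₂, hψ true, hψ false⟩

end Groth.Agent.AutBound14
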