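import Groth.Agent.Lib.ExtFil4.Uniq
import Groth.Agent.Lib.AmpleFib.CurveRel

/-!
# Exterior powers and top differentials under isomorphisms of schemes
-/

set_option autoImplicit false
set_option linter.style.haveILetI false
set_option linter.unusedSectionVars false
set_option backward.isDefEq.respectTransparency false
set_option backward.isDefEq.respectTransparency.types false
universe u

open CategoryTheory Limits AlgebraicGeometry Opposite TopologicalSpace

noncomputable section

namespace Groth.Agent.AutBound14

section alg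

variable {R R' : Type u} [CommRing R] [CommRing R'] (σ : R ≃+* R')
  {M M' : Type u} [AddCommGroup M] [Module R M] [AddCommGroup M'] [Module R' M']

/-- Exterior powers of semilinearly equivalent modules. -/
theorem exists_extPow_semilinear (e : M ≃+ M') (he : ∀ r m, e (r • m) = σ r • e m) (i : ℕ) :
    ∃ F : ↥(⋀[R]^i M) ≃+ ↥(⋀[R']^i M'), (∀ r x, F (r • x) = σ r • F x) ∧
      ∀ v : Fin i → M, F (exteriorPower.ιMulti R i v) = exteriorPower.ιMulti R' i fun j => e (v j) := by
  classical
  letI : Module R M' := Module.compHom M' σ.toRingHom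
  letI : Module R ↥(⋀[R']^i M') := Module.compHom _ σ.toRingHom
  letI : Module R' M := Module.compHom M σ.symm.toRingHom
  letI : Module R' ↥(⋀[R]^i M) := Module.compHom _ σ.symm.toRingHom
  have he' : ∀ r' m', e.symm (r' • m') = σ.symm r' • e.symm m' := fun r' m' => e.injective (by
    rw [he, e.apply_symm_apply, e.apply_symm_apply, σ.apply_symm_apply])
  let a : M [⋀^Fin i]→ₗ[R] ↥(⋀[R']^i M') :=
    { toFun := fun v => exteriorPower.ιMulti R' i fun j => e (v j)
      map_update_add' := fun {inst} v j x y => by
        have h : ∀ z, (fun l => e (Function.update v j z l)) = Function.update (fun l => e (v l)) j (e z) :=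
          fun z => funext fun l => Function.apply_update (fun _ => e) v j z l
        simp only [h, map_add, AlternatingMap.map_update_add]
      map_update_smul' := fun {inst} v j r x => by
        have h : ∀ z, (fun l => e (Function.update v j z l)) = Function.update (fun l => e (v l)) j (e z) :=
          fun z => funext fun l => Function.apply_update (fun _ => e) v j z l
        simp only [h, he, AlternatingMap.map_update_smul]
        rfl
      map_eq_zero_of_eq' := fun v p q h hne =>
        (exteriorPower.ιMulti R' i).map_eq_zero_of_eq _ (congrArg e h) hne }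
  let b : M' [⋀^Fin i]→ₗ[R'] ↥(⋀[R]^i M) :=
    { toFun := fun v => exteriorPower.ιMulti R i fun j => e.symm (v j)
      map_update_add' := fun {inst} v j x y => by
        have h : ∀ z, (fun l => e.symm (Function.update v j z l)) =
            Function.update (fun l => e.symm (v l)) j (e.symm z) :=
          fun z => funext fun l => Function.apply_update (fun _ => e.symm) v j z l
        simp only [h, map_add, AlternatingMap.map_update_add]
      map_update_smul' := fun {inst} v j r x => by
        have h : ∀ z, (fun l => e.symm (Function.update v j z l)) =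
            Function.update (fun l => e.symm (v l)) j (e.symm z) :=
          fun z => funext fun l => Function.apply_update (fun _ => e.symm) v j z l
        simp only [h, he', AlternatingMap.map_update_smul]
        rfl
      map_eq_zero_of_eq' := fun v p q h hne =>
        (exteriorPower.ιMulti R i).map_eq_zero_of_eq _ (congrArg e.symm h) hne }
  let A := exteriorPower.alternatingMapLinearEquiv a
  let B := exteriorPower.alternatingMapLinearEquiv b
  have hA : ∀ r x, A (r • x) = σ r • A x := fun r x => map_smul A r x
  have hB : ∀ r' x, B (r' • x) = σ.symm r' • B x := fun r' x => map_smul B r' x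
  have hAB : ∀ x, B (A x) = x := fun x => by
    have hx : x ∈ Submodule.span R (Set.range (exteriorPower.ιMulti R i (M := M))) := by
      rw [exteriorPower.ιMulti_span]; trivial
    induction hx using Submodule.span_induction with
    | zero => rw [map_zero, map_zero]
    | add c d _ _ hc hd => rw [map_add, map_add, hc, hd]
    | smul c d _ hd => rw [hA, hB, σ.symm_apply_apply, hd]
    | mem c hc =>
      obtain ⟨v, rfl⟩ := hc
      simp only [A, B, exteriorPower.alternatingMapLinearEquiv_apply_ιMulti]
      show B (exteriorPower.ιMulti R' i fun j => e (v j)) = _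
      simp only [B, exteriorPower.alternatingMapLinearEquiv_apply_ιMulti]
      show exteriorPower.ιMulti R i (fun j => e.symm (e (v j))) = _
      simp only [e.symm_apply_apply]
  have hBA : ∀ x, A (B x) = x := fun x => by
    have hx : x ∈ Submodule.span R' (Set.range (exteriorPower.ιMulti R' i (M := M'))) := by
      rw [exteriorPower.ιMulti_span]; trivial
    induction hx using Submodule.span_induction with
    | zero => rw [map_zero, map_zero]
    | add c d _ _ hc hd => rw [map_add, map_add, hc, hd]
    | smul c d _ hd => rw [hB, hA, σ.apply_symm_apply, hd]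
    | mem c hc =>
      obtain ⟨v, rfl⟩ := hc
      simp only [A, B, exteriorPower.alternatingMapLinearEquiv_apply_ιMulti]
      show A (exteriorPower.ιMulti R i fun j => e.symm (v j)) = _
      simp only [A, exteriorPower.alternatingMapLinearEquiv_apply_ιMulti]
      show exteriorPower.ιMulti R' i (fun j => e (e.symm (v j))) = _
      simp only [e.apply_symm_apply]
  exact ⟨{ toFun := A, invFun := B, left_inv := hAB, right_inv := hBA, map_add' := map_add A }, hA, fun v => by
    show A _ = _
    simp only [A, exteriorPower.alternatingMapLinearEquiv_apply_ιMulti]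
    rfl⟩

/-- Transport of an exterior power along semilinear equivalences. -/
theorem exists_transport {N N' : Type u} [AddCommGroup N] [Module R N] [AddCommGroup N'] [Module R' N']
    (e : M ≃+ M') (he : ∀ r m, e (r • m) = σ r • e m) (b : N ≃+ N') (hb : ∀ r m, b (r • m) = σ r • b m)
    {i : ℕ} (φ : N ≃ₗ[R] ↥(⋀[R]^i M)) :
    ∃ ψ : N' ≃ₗ[R'] ↥(⋀[R']^i M'), ∀ v : Fin i → M',
      ψ.symm (exteriorPower.ιMulti R' i v) = b (φ.symm (exteriorPower.ιMulti R i fun j => e.symm (v j))) := by
  obtain ⟨F, hFs, hF⟩ := exists_extPow_semilinear σ e he i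
  refine ⟨{ (b.symm.trans φ.toAddEquiv).trans F with
    map_smul' := fun r' n => ?_ }, fun v => ?_⟩
  · show F (φ (b.symm (r' • n))) = r' • F (φ (b.symm n))
    have h1 : b.symm (r' • n) = σ.symm r' • b.symm n :=
      b.injective (by rw [hb, b.apply_symm_apply, b.apply_symm_apply, σ.apply_symm_apply])
    rw [h1, map_smul, hFs, σ.apply_symm_apply]
  · show b (φ.symm (F.symm _)) = _
    congr 2
    rw [AddEquiv.symm_apply_eq, hF]
    simp only [e.apply_symm_apply]

end alg

variable {X X' : Scheme.{u}} {i : ℕ} {E L : X.Modules}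

theorem smul_restrict (f : X' ⟶ X) [IsOpenImmersion f] (M : X.Modules) (U : X'.Opens) (r : Γ(X', U))
    (m : Γ((Scheme.Modules.restrictFunctor f).obj M, U)) :
    (r • m : Γ((Scheme.Modules.restrictFunctor f).obj M, U)) =
      (((f.appIso U).inv r) • (show Γ(M, f ''ᵁ U) from m) : Γ(M, f ''ᵁ U)) := rfl

/-- Exterior powers restrict along open immersions. -/
theorem isExtPow_restrict (h : ExtPow.IsExtPow i E L) (f : X' ⟶ X) [IsOpenImmersion f] :
    ExtPow.IsExtPow i ((Scheme.Modules.restrictFunctor f).obj E) ((Scheme.Modules.restrictFunctor f).obj L) := by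
  obtain ⟨φ, hφ⟩ := h
  let img : X'.affineOpens → X.affineOpens := fun U => ⟨f ''ᵁ U.1, U.2.image_of_isOpenImmersion f⟩
  let σ : ∀ U : X'.affineOpens, Γ(X, (img U).1) ≃+* Γ(X', U.1) := fun U => (f.appIso U.1).commRingCatIsoToRingEquiv
  have hsem : ∀ (M : X.Modules) (U : X'.affineOpens) (r : Γ(X, (img U).1)) (m : Γ(M, (img U).1)),
      (M.restrictAppIso f U.1).symm.addCommGroupIsoToAddEquiv (r • m) =
        σ U r • (M.restrictAppIso f U.1).symm.addCommGroupIsoToAddEquiv m := fun M U r m =>
    Scheme.Modules.smul_restrictAppIso_inv_apply f M U.1 r m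
  choose ψ hψ using fun U : X'.affineOpens => exists_transport (σ U) _ (hsem E U) _ (hsem L U) (φ (img U))
  refine ⟨ψ, fun U V hVU e => ?_⟩
  refine Eq.trans (congrArg _ (hψ U e)) (Eq.trans ?_ (hψ V _).symm)
  exact hφ (img U) (img V) (f.image_mono hVU) e

/-- The equivalence of sections of an isomorphism. -/
def secEquiv {M N : X.Modules} (a : M ≅ N) (U : X.Opens) : Γ(M, U) ≃+ Γ(N, U) where
  toFun := a.hom.app U
  invFun := a.inv.app U
  left_inv m := (congrArg (fun t => t.app U m) a.hom_inv_id :)
  right_inv m := (congrArg (fun t => t.app U m) a.inv_hom_id :)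
  map_add' := map_add _

theorem secEquiv_smul {M N : X.Modules} (a : M ≅ N) (U : X.Opens) (r : Γ(X, U)) (m : Γ(M, U)) :
    secEquiv a U (r • m) = RingEquiv.refl Γ(X, U) r • secEquiv a U m :=
  Scheme.Modules.Hom.app_smul a.hom r m

/-- Exterior powers are invariant under isomorphisms. -/
theorem isExtPow_of_iso {E' L' : X.Modules} (h : ExtPow.IsExtPow i E L) (a : E ≅ E') (b : L ≅ L') :
    ExtPow.IsExtPow i E' L' := by
  obtain ⟨φ, hφ⟩ := h
  choose ψ hψ using fun U : X.affineOpens => exists_transport (RingEquiv.refl Γ(X, U.1)) (secEquiv a U.1)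
    (secEquiv_smul a U.1) (secEquiv b U.1) (secEquiv_smul b U.1) (φ U)
  refine ⟨ψ, fun U V hVU e => ?_⟩
  refine Eq.trans (congrArg _ (hψ U e)) (Eq.trans ?_ (hψ V _).symm)
  refine Eq.trans (M1.app_mres b.hom hVU _).symm ?_
  refine congrArg (fun t => b.hom.app V.1 t) ((hφ U V hVU _).trans ?_)
  refine congrArg (fun t => (φ V).symm (exteriorPower.ιMulti _ i t)) (funext fun j => ?_)
  exact (M1.app_mres a.inv hVU (e j)).symm

/-- An automorphism fixes the top differentials. -/
theorem nonempty_topDiff_pullback {S : Scheme.{u}} {p : X ⟶ S} [QuasiSeparated p] {n : ℕ} {ω : X.Modules}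
    (hω : Canon.IsTopDiff p n ω) (f : X ⟶ X) [IsIso f] (hf : f ≫ p = p) :
    Nonempty ((Scheme.Modules.pullback f).obj ω ≅ ω) := by
  have sq : IsPullback f p p (𝟙 S) := IsPullback.of_horiz_isIso ⟨by rw [hf, Category.comp_id]⟩
  obtain ⟨e⟩ := AmpleFib.nonempty_omega_pullback sq
  let r := Scheme.Modules.restrictFunctorIsoPullback f
  exact ExtFil4.isoExtPow
    (isExtPow_of_iso (isExtPow_restrict hω f) (r.app _ ≪≫ e) (r.app ω)) hω

/-- An automorphism fixes the inverse of the top differentials. -/
theorem nonempty_inverse_pullback (f : X ⟶ X) {ω ω' : X.Modules}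
    (hω' : Nonempty (CohB1.tensorMod ω ω' ≅ Coh.structureModule X))
    (h : Nonempty ((Scheme.Modules.pullback f).obj ω ≅ ω)) :
    Nonempty ((Scheme.Modules.pullback f).obj ω' ≅ ω') := by
  obtain ⟨t⟩ := hω'
  obtain ⟨e⟩ := h
  let u : CohB1.tensorMod ω ((Scheme.Modules.pullback f).obj ω') ≅ Coh.structureModule X :=
    M2.tensorIso e.symm (Iso.refl _) ≪≫ (M2.pullTensorIso f ω ω').symm ≪≫
      (Scheme.Modules.pullback f).mapIso t ≪≫ Twist.pullbackUnitIso _
  exact ⟨(M2.tensorRUnit _).symm ≪≫ M2.tensorIso (Iso.refl _) t.symm ≪≫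
    (M2.tensorAssoc _ ω ω').symm ≪≫
    M2.tensorIso (M2.tensorComm _ ω ≪≫ u) (Iso.refl ω') ≪≫ M2.tensorComm _ ω' ≪≫ M2.tensorRUnit ω'⟩

end Groth.Agent.AutBound14
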