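import Groth.Agent.Lib.AmpleFix14.Gen
import Groth.Agent.S3572
import Groth.Agent.S3573
import Groth.Agent.Lib.Sumihiro14.Open

/-!
# Morphisms to projective space given by linear families of sections
-/

set_option autoImplicit false
set_option linter.style.haveILetI false
set_option linter.unusedSectionVars false
set_option backward.isDefEq.respectTransparency false
set_option backward.isDefEq.respectTransparency.types false
universe u

open CategoryTheory CategoryTheory.Limits MonoidalCategory CartesianMonoidalCategory MonObj AlgebraicGeometry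
open TopologicalSpace

noncomputable section

namespace Groth.Agent.AutBound14

open Groth.Agent.Amp (Gen gm)
open Groth.Agent.ModLimH13 (res')
open Sumihiro14 (loc mem_loc_iff vl slice sl sl_sum sl_smul sl_pullSec slice_snd)
open AmpleFix14 (slTop)
open DiagGL (alg)

variable {k : Type u} [Field k] {Y X : Over (Spec (CommRingCat.of k))} {L : X.left.Modules}
  {N : Type u} [Fintype N]

/-- A family of combinations of sections. -/
def famSec (c : N → Γ(Y.left, ⊤)) (b : N → Γ(L, ⊤)) : Γ((Scheme.Modules.pullback (snd Y X).left).obj L, ⊤) :=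
  ∑ l, (fst Y X).left.appTop (c l) •
    res' (snd Y X).left L (fun _ _ => trivial : (⊤ : (Y ⊗ X).left.Opens) ≤ (snd Y X).left ⁻¹ᵁ ⊤) (b l)

theorem slTop_famSec (t : 𝟙_ (Over (Spec (CommRingCat.of k))) ⟶ Y) (c : N → Γ(Y.left, ⊤)) (b : N → Γ(L, ⊤)) :
    slTop t (famSec c b) = ∑ l, alg X (vl t (c l)) • b l := by
  rw [slTop, famSec, sl_sum, map_sum]
  refine Finset.sum_congr rfl fun l _ => ?_
  rw [sl_smul, M1.mres_smul]
  refine congrArg₂ (fun (r : Γ(X.left, ⊤)) (s : Γ(L, ⊤)) => r • s) ?_ ?_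
  · refine (M1.ores_id _ _).trans ?_
    show ((fst Y X).left.appTop ≫ (slice t).left.appTop) (c l) = _
    rw [← Scheme.Hom.comp_appTop, ← Over.comp_left, slice, lift_fst]
    exact Sumihiro14.appTop_eq_alg t (c l)
  · rw [res', Sumihiro14.sl_mres, sl_pullSec, M1.mres_mres, M1.mres_mres, M1.mres_id]

/-- Generation of a family at a point of a slice. -/
theorem mem_loc_slTop (hL : PicF.IsInvertible L) (t : 𝟙_ (Over (Spec (CommRingCat.of k))) ⟶ Y) (y : X.left)
    (m : Γ((Scheme.Modules.pullback (snd Y X).left).obj L, ⊤)) :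
    y ∈ loc (slTop t m) ↔ Gen (gm _ ((slice t).left y) (U := ⊤) trivial m) := by
  rw [mem_loc_iff hL, slTop]
  erw [Amp.gm_res]
  exact Sumihiro14.gen_sl_iff t hL m trivial

/-- The iso identifying the twist on a slice. -/
def sliceIso {P : Scheme.{u}} {O1 : P.Modules} (t : 𝟙_ (Over (Spec (CommRingCat.of k))) ⟶ Y) (r : (Y ⊗ X).left ⟶ P)
    (τ' : (Scheme.Modules.pullback r).obj O1 ≅ (Scheme.Modules.pullback (snd Y X).left).obj L) :
    (Scheme.Modules.pullback ((slice t).left ≫ r)).obj O1 ≅ L :=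
  ((ModLimH13.cmp (slice (X := X) t).left r rfl).app O1).symm ≪≫
    (Scheme.Modules.pullback (slice t).left).mapIso τ' ≪≫
    (ModLimH13.cmp (slice (X := X) t).left (snd Y X).left (slice_snd t)).app L ≪≫
    (Scheme.Modules.pullbackId X.left).app L

set_option maxHeartbeats 2000000 in
theorem sliceIso_app {P : Scheme.{u}} {O1 : P.Modules} (t : 𝟙_ (Over (Spec (CommRingCat.of k))) ⟶ Y)
    (r : (Y ⊗ X).left ⟶ P)
    (τ' : (Scheme.Modules.pullback r).obj O1 ≅ (Scheme.Modules.pullback (snd Y X).left).obj L)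
    (v : Γ(O1, ⊤)) (h : (⊤ : X.left.Opens) ≤ ((slice t).left ≫ r) ⁻¹ᵁ ⊤) :
    (sliceIso t r τ').hom.app ⊤ (res' ((slice t).left ≫ r) O1 h v) =
      slTop t (τ'.hom.app ⊤ (res' r O1 (W := ⊤) (fun _ _ => trivial : (⊤ : (Y ⊗ X).left.Opens) ≤ r ⁻¹ᵁ ⊤) v)) := by
  let σ := (slice (X := X) t).left
  let e₀ : (⊤ : (Y ⊗ X).left.Opens) ≤ r ⁻¹ᵁ ⊤ := fun _ _ => trivial
  let e₁ : (⊤ : X.left.Opens) ≤ σ ⁻¹ᵁ ⊤ := fun _ _ => trivial
  let cm := ModLimH13.cmp σ r (rfl : σ ≫ r = σ ≫ r)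
  have h2 : (cm.inv.app O1).app ⊤ (res' (σ ≫ r) O1 h v) =
      res' σ ((Scheme.Modules.pullback r).obj O1) e₁ (res' r O1 e₀ v) := by
    have h' := ModLimH13.cmp_res' σ r O1 (rfl : σ ≫ r = σ ≫ r) e₀ e₁ v
    refine (congrArg (fun w => (cm.inv.app O1).app ⊤ w) h'.symm).trans ?_
    exact congrArg (fun φ : (Scheme.Modules.pullback σ).obj ((Scheme.Modules.pullback r).obj O1) ⟶
      (Scheme.Modules.pullback σ).obj ((Scheme.Modules.pullback r).obj O1) =>
      φ.app ⊤ (res' σ _ e₁ (res' r O1 e₀ v))) (cm.hom_inv_id_app O1)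
  show (((Scheme.Modules.pullbackId X.left).hom.app L).app ⊤)
    (((ModLimH13.cmp σ (snd Y X).left (slice_snd t)).hom.app L).app ⊤
      (((Scheme.Modules.pullback σ).map τ'.hom).app ⊤ ((cm.inv.app O1).app ⊤ (res' (σ ≫ r) O1 h v)))) = _
  rw [h2, ModLimH13.map_res', slTop]
  refine Eq.trans ?_ (M1.app_mres ((Scheme.Modules.pullbackId X.left).hom.app L) e₁ _)
  rw [ModLimH13.mres_trans]
  rfl

theorem res'_top {X' P : Scheme.{u}} (g : X' ⟶ P) (M : P.Modules) (v : Γ(M, ⊤))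
    (h : (⊤ : X'.Opens) ≤ g ⁻¹ᵁ ⊤) : res' g M h v = M2.pullSec g M v := M1.mres_id _ h _

theorem slice_comp_eq {n : ℕ} (t : 𝟙_ (Over (Spec (CommRingCat.of k))) ⟶ Y)
    (r : (Y ⊗ X).left ⟶ CohB1.ProjSpace n k) (hr : r ≫ CohB1.ProjSpace.toSpec n k = (Y ⊗ X).hom)
    (τ' : (Scheme.Modules.pullback r).obj (Twist.twistProjSpace n k 1) ≅ (Scheme.Modules.pullback (snd Y X).left).obj L)
    (ρ : X.left ⟶ CohB1.ProjSpace n k) (hρ : ρ ≫ CohB1.ProjSpace.toSpec n k = X.hom)
    (τ : (Scheme.Modules.pullback ρ).obj (Twist.twistProjSpace n k 1) ≅ L)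
    (h : ∀ i, τ.hom.app ⊤ (ProjUP.pullSec ρ (Twist.twistProjSpace n k 1) (ProjUP.coord n k i)) =
      slTop t (τ'.hom.app ⊤ (ProjUP.pullSec r (Twist.twistProjSpace n k 1) (ProjUP.coord n k i)))) :
    (slice t).left ≫ r = ρ := by
  have hbase : ((slice (X := X) t).left ≫ r) ≫ CohB1.ProjSpace.toSpec n k = ρ ≫ CohB1.ProjSpace.toSpec n k := by
    rw [hρ, Category.assoc, hr]
    exact Over.w (slice t)
  refine S3573.result n _ ρ hbase (sliceIso t r τ' ≪≫ τ.symm) fun i => ?_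
  have h1 := sliceIso_app t r τ' (ProjUP.coord n k i) (fun _ _ => trivial)
  rw [res'_top, res'_top] at h1
  show τ.inv.app ⊤ ((sliceIso t r τ').hom.app ⊤ _) = _
  refine (congrArg (fun z => τ.inv.app ⊤ z) (h1.trans (h i).symm)).trans ?_
  exact congrArg (fun φ : (Scheme.Modules.pullback ρ).obj (Twist.twistProjSpace n k 1) ⟶
    (Scheme.Modules.pullback ρ).obj (Twist.twistProjSpace n k 1) =>
    φ.app ⊤ (ProjUP.pullSec ρ (Twist.twistProjSpace n k 1) (ProjUP.coord n k i))) τ.hom_inv_id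

variable [IsAlgClosed k] [LocallyOfFiniteType Y.hom] [LocallyOfFiniteType X.hom]

instance lft_prod : LocallyOfFiniteType (Y ⊗ X).hom :=
  inferInstanceAs (LocallyOfFiniteType (pullback.fst Y.hom X.hom ≫ Y.hom))

/-- Closed points of a product lie on slices. -/
theorem exists_slice_eq (z : (Y ⊗ X).left) (hz : IsClosed ({z} : Set (Y ⊗ X).left)) :
    ∃ (t : 𝟙_ (Over (Spec (CommRingCat.of k))) ⟶ Y) (x : 𝟙_ (Over (Spec (CommRingCat.of k))) ⟶ X),
      (slice t).left (x.left (IsLocalRing.closedPoint k)) = z := by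
  obtain ⟨p, rfl⟩ := OrbitTop19.exists_point (Y ⊗ X) z hz
  refine ⟨p ≫ fst Y X, p ≫ snd Y X, ?_⟩
  have h : (p ≫ snd Y X) ≫ slice (p ≫ fst Y X) = p := by
    refine CartesianMonoidalCategory.hom_ext _ _ ?_ ?_
    · rw [slice, Category.assoc, lift_fst, ← Category.assoc,
        toUnit_unique ((p ≫ snd Y X) ≫ toUnit X) (𝟙 _), Category.id_comp]
    · rw [slice, Category.assoc, lift_snd, Category.comp_id]
  conv_rhs => rw [← h]
  rfl

/-- The morphism given by families of sections generating on every slice. -/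
theorem exists_famMap (hL : PicF.IsInvertible L) {n : ℕ} (c : Fin (n + 1) → N → Γ(Y.left, ⊤)) (b : N → Γ(L, ⊤))
    (hgen : ∀ (t : 𝟙_ (Over (Spec (CommRingCat.of k))) ⟶ Y) (y : X.left),
      ∃ i, y ∈ loc (∑ l, alg X (vl t (c i l)) • b l)) :
    ∃ r : (Y ⊗ X).left ⟶ CohB1.ProjSpace n k, r ≫ CohB1.ProjSpace.toSpec n k = (Y ⊗ X).hom ∧
      ∀ (t : 𝟙_ (Over (Spec (CommRingCat.of k))) ⟶ Y) (ρ : X.left ⟶ CohB1.ProjSpace n k),
        ρ ≫ CohB1.ProjSpace.toSpec n k = X.hom →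
        ∀ τ : (Scheme.Modules.pullback ρ).obj (Twist.twistProjSpace n k 1) ≅ L,
          (∀ i, τ.hom.app ⊤ (ProjUP.pullSec ρ (Twist.twistProjSpace n k 1) (ProjUP.coord n k i)) =
            ∑ l, alg X (vl t (c i l)) • b l) → (slice t).left ≫ r = ρ := by
  let LY := (Scheme.Modules.pullback (snd Y X).left).obj L
  have hLY : PicF.IsInvertible LY := PicLoc.isInvertible_pullback _ hL
  let s : Fin (n + 1) → ProjUP.Γm LY := fun i => famSec (c i) b
  have hgenz : ∀ z : (Y ⊗ X).left, ∃ i, z ∈ loc (s i) := by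
    haveI : JacobsonSpace (Y ⊗ X).left := LocallyOfFiniteType.jacobsonSpace (Y ⊗ X).hom
    intro z
    have htop : (⊤ : (Y ⊗ X).left.Opens) ≤ ⨆ i, loc (s i) := by
      refine Sumihiro14.opens_le_of_closedPoints fun w hw _ => ?_
      obtain ⟨t, x, rfl⟩ := exists_slice_eq w hw
      obtain ⟨i, hi⟩ := hgen t (x.left (IsLocalRing.closedPoint k))
      rw [← slTop_famSec, mem_loc_slTop hL] at hi
      exact Opens.mem_iSup.2 ⟨i, (mem_loc_iff hLY).2 hi⟩
    exact Opens.mem_iSup.1 (htop (Opens.mem_top z))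
  have hs : ProjUP.GeneratedBy LY s := fun z => by
    obtain ⟨i, hi⟩ := hgenz z
    refine top_le_iff.1 fun a _ => ?_
    obtain ⟨e, rfl⟩ := ((mem_loc_iff hLY).1 hi).2 a
    exact Submodule.smul_mem _ e (Submodule.subset_span ⟨i, rfl⟩)
  obtain ⟨r, hr, τ', hτ'⟩ := S3572.result n (Y ⊗ X).hom LY hLY s hs
  exact ⟨r, hr, fun t ρ hρ τ hτ => slice_comp_eq t r hr τ' ρ hρ τ fun i => by
    rw [hτ i, hτ', slTop_famSec]⟩

end Groth.Agent.AutBound14
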