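import Groth.Agent.Lib.AutBound14.Fam
import Groth.Agent.Lib.RedSep.Basic
import Groth.Agent.Lib.PerfProd19.Basic

/-!
# Closed loci of parameters whose whole fibre satisfies a closed condition
-/

set_option autoImplicit false
set_option linter.style.haveILetI false
set_option linter.unusedSectionVars false
set_option backward.isDefEq.respectTransparency false
set_option backward.isDefEq.respectTransparency.types false
universe u

open CategoryTheory CategoryTheory.Limits MonoidalCategory CartesianMonoidalCategory MonObj AlgebraicGeometry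
open TopologicalSpace Topology

noncomputable section

namespace Groth.Agent.AutBound14

open Sumihiro14 (slice)

variable {k : Type u} [Field k] {Y X : Over (Spec (CommRingCat.of k))}

/-- The point of the underlying scheme of a rational point. -/
abbrev ptOf (t : 𝟙_ (Over (Spec (CommRingCat.of k))) ⟶ Y) : Y.left := t.left (IsLocalRing.closedPoint k)

/-- The parameters whose fibre is contained in a set. -/
def fibSet (C : Set (Y ⊗ X).left) : Set Y.left := {y | ∀ z, (fst Y X).left z = y → z ∈ C}

theorem fibSet_eq (C : Set (Y ⊗ X).left) : fibSet C = ((fst Y X).left '' Cᶜ)ᶜ := by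
  ext y
  simp only [fibSet, Set.mem_setOf_eq, Set.mem_compl_iff, Set.mem_image, not_exists, not_and]
  exact ⟨fun h z hz hzy => hz (h z hzy), fun h z hzy => by_contra fun hz => h z hz hzy⟩

theorem isClosed_fibSet {C : Set (Y ⊗ X).left} (hC : IsClosed C) : IsClosed (fibSet C) := by
  rw [fibSet_eq]
  haveI : UniversallyOpen X.hom := inferInstance
  haveI : UniversallyOpen (fst Y X).left := inferInstanceAs (UniversallyOpen (pullback.fst Y.hom X.hom))
  exact ((fst Y X).left.isOpenMap _ hC.isOpen_compl).isClosed_compl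

theorem isOpen_fibSet [IsProper X.hom] {C : Set (Y ⊗ X).left} (hC : IsOpen C) : IsOpen (fibSet C) := by
  rw [fibSet_eq]
  haveI : IsProper (fst Y X).left := inferInstanceAs (IsProper (pullback.fst Y.hom X.hom))
  exact ((fst Y X).left.isClosedMap _ hC.isClosed_compl).isOpen_compl

theorem fst_slice (t : 𝟙_ (Over (Spec (CommRingCat.of k))) ⟶ Y) (x : X.left) :
    (fst Y X).left ((slice t).left x) = ptOf t := by
  rw [← Scheme.Hom.comp_apply, ← Over.comp_left, slice, lift_fst, Over.comp_left, Scheme.Hom.comp_apply]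
  congr 1
  exact @Subsingleton.elim _ (inferInstanceAs (Subsingleton (PrimeSpectrum k))) _ _

theorem isClosed_ptOf (t : 𝟙_ (Over (Spec (CommRingCat.of k))) ⟶ Y) [IsSeparated Y.hom] :
    IsClosed ({ptOf t} : Set Y.left) := by
  haveI : IsClosedImmersion t.left := by
    haveI : IsClosedImmersion (t.left ≫ Y.hom) := by rw [Over.w t]; exact inferInstanceAs (IsClosedImmersion (𝟙 _))
    exact IsClosedImmersion.of_comp t.left Y.hom
  have h : Set.range t.left = {ptOf t} := by
    ext y
    refine ⟨?_, fun h => ⟨_, h.symm⟩⟩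
    rintro ⟨p, rfl⟩
    exact congrArg _ (@Subsingleton.elim _ (inferInstanceAs (Subsingleton (PrimeSpectrum k))) _ _)
  rw [← h]
  exact t.left.isClosedEmbedding.isClosed_range

variable [IsAlgClosed k] [LocallyOfFiniteType Y.hom] [LocallyOfFiniteType X.hom]

theorem eq_of_ptOf [IsSeparated Y.hom] {t t' : 𝟙_ (Over (Spec (CommRingCat.of k))) ⟶ Y} (h : ptOf t = ptOf t') :
    t = t' := by
  haveI : IsReduced (Spec (CommRingCat.of k)) := inferInstance
  haveI : IsReduced (𝟙_ (Over (Spec (CommRingCat.of k)))).left := inferInstanceAs (IsReduced (Spec (CommRingCat.of k)))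
  haveI : LocallyOfFiniteType (t.left ≫ Y.hom) := by
    rw [Over.w t]; exact inferInstanceAs (LocallyOfFiniteType (𝟙 _))
  refine Over.OverMorphism.ext (ext_of_apply_eq Y.hom Set.univ isOpen_univ.isLocallyClosed dense_univ
    (fun x _ _ => ?_) (by rw [Over.w, Over.w]))
  obtain rfl : x = IsLocalRing.closedPoint k := @Subsingleton.elim _ (inferInstanceAs (Subsingleton (PrimeSpectrum k))) _ _
  exact h

/-- A whole fibre over a rational point lies in a locally closed set as soon as all its slice points do. -/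
theorem ptOf_mem_fibSet_iff [IsSeparated Y.hom] {C : Set (Y ⊗ X).left} (hC : IsLocallyClosed Cᶜ)
    (t : 𝟙_ (Over (Spec (CommRingCat.of k))) ⟶ Y) :
    ptOf t ∈ fibSet C ↔ ∀ x : X.left, (slice t).left x ∈ C := by
  refine ⟨fun h x => h _ (fst_slice t x), fun h z hz => ?_⟩
  by_contra hzC
  haveI : JacobsonSpace (Y ⊗ X).left := LocallyOfFiniteType.jacobsonSpace (Y ⊗ X).hom
  obtain ⟨w, ⟨hw1, hw2⟩, hw⟩ := nonempty_inter_closedPoints
    (Z := (fst Y X).left ⁻¹' {ptOf t} ∩ Cᶜ) ⟨z, hz, hzC⟩
    (((isClosed_ptOf t).preimage (fst Y X).left.continuous).isLocallyClosed.inter hC)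
  obtain ⟨t', x, rfl⟩ := exists_slice_eq w hw
  have h1 : ptOf t' = ptOf t := (fst_slice t' _).symm.trans hw1
  obtain rfl := eq_of_ptOf h1
  exact hw2 (h _)

omit [IsAlgClosed k] [LocallyOfFiniteType X.hom] in
/-- Reduced closed subschemes. -/
theorem exists_reduced_sub {C : Set Y.left} (hC : IsClosed C) :
    ∃ (Z : Over (Spec (CommRingCat.of k))) (i : Z ⟶ Y),
      IsClosedImmersion i.left ∧ IsReduced Z.left ∧ Set.range i.left = C ∧ LocallyOfFiniteType Z.hom := by
  let I := Scheme.IdealSheafData.vanishingIdeal ⟨C, hC⟩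
  refine ⟨Over.mk (I.subschemeι ≫ Y.hom), Over.homMk I.subschemeι rfl,
    inferInstanceAs (IsClosedImmersion I.subschemeι), RedSepLib.isReduced_vanishingIdeal_subscheme _, ?_,
    inferInstanceAs (LocallyOfFiniteType (I.subschemeι ≫ Y.hom))⟩
  show Set.range I.subschemeι = C
  rw [Scheme.IdealSheafData.range_subschemeι, Scheme.IdealSheafData.coe_support_vanishingIdeal]
  rfl

omit [IsAlgClosed k] [LocallyOfFiniteType Y.hom] [LocallyOfFiniteType X.hom] in
/-- Lifts to subschemes over the base. -/
theorem exists_lift_over {W Z : Over (Spec (CommRingCat.of k))} [IsReduced W.left] (f : W ⟶ Y) (i : Z ⟶ Y)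
    [IsClosedImmersion i.left] (h : Set.range f.left ⊆ Set.range i.left) : ∃ l : W ⟶ Z, l ≫ i = f := by
  obtain ⟨l, hl⟩ := RedSepLib.exists_lift_of_range_subset f.left i.left h
  exact ⟨Over.homMk l (by rw [← Over.w i, reassoc_of% hl, Over.w f]), Over.OverMorphism.ext hl⟩

end Groth.Agent.AutBound14
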