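import Groth.Agent.Lib.AutBound14.Bound
import Groth.Agent.Lib.AmpleFix14.Restr
import Groth.Agent.Lib.AmpleImm18.Main
import Groth.Agent.Lib.BorelFix21.Stabilizer
import Groth.Agent.Lib.CohFound.Chevalley
import Groth.Agent.Lib.QuotProj11.Proper
import Groth.Prelude.Def_AutSch

/-!
# The automorphisms of a projective variety fixing an ample class form an affine group of finite type
-/

set_option autoImplicit false
set_option linter.style.haveILetI false
set_option linter.unusedSectionVars false
set_option backward.isDefEq.respectTransparency false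
set_option backward.isDefEq.respectTransparency.types false
universe u

open CategoryTheory CategoryTheory.Limits MonoidalCategory CartesianMonoidalCategory MonObj AlgebraicGeometry
open TopologicalSpace Topology

noncomputable section

namespace Groth.Agent.AutBound14

open Sumihiro14 (slice)
open OrbitTop19 (tr)

variable {k : Type u} [Field k] [IsAlgClosed k] {G X : Over (Spec (CommRingCat.of k))} [GrpObj G]

theorem rightUnitor_famOf (a : AlgGrp.Action G X) (g : 𝟙_ (Over (Spec (CommRingCat.of k))) ⟶ G) :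
    AutSch.famOf a g = fst X (𝟙_ _) ≫ tr a g := by
  rw [AutSch.famOf, tr, ← Category.assoc, comp_lift, Category.comp_id, ← Category.assoc]
  congr 2
  rw [toUnit_unique (fst X (𝟙_ _) ≫ toUnit X) (snd X (𝟙_ _))]

variable [LocallyOfFiniteType G.hom] [IsIntegral X.left]

/-- If every automorphism fixes an ample class, the automorphism group scheme is quasi-compact. -/
theorem quasiCompact_of_fix_ample [IsProper X.hom] (a : AlgGrp.Action G X) (hG : AutSch.Represents X G a)
    {L : X.left.Modules} (hLa : CohB1.IsAmple L)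
    (hfix : ∀ g : 𝟙_ (Over (Spec (CommRingCat.of k))) ⟶ G,
      Nonempty ((Scheme.Modules.pullback (tr a g).left).obj L ≅ L)) :
    QuasiCompact G.hom := by
  obtain ⟨m₀, hm₀⟩ := AmpleImm18.exists_immersion_pow_of_isAmple X.hom hLa
  obtain ⟨n, j, hji, hjq, ⟨eM⟩⟩ := hm₀ (m₀ + 1) (Nat.le_succ _)
  haveI := hji
  haveI : IsProper j := by
    haveI : IsProper (j ≫ CohB1.ProjSpace.toSpec n k) := by rw [hjq]; infer_instance
    exact IsProper.of_comp j (CohB1.ProjSpace.toSpec n k)
  haveI : IsClosedImmersion j := IsClosedImmersion.of_isPreimmersion j j.isClosedMap.isClosed_range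
  obtain ⟨Z, ψ, ψ', hZc, h1, h2, hsurj⟩ := exists_pair j hjq (M2.isInvertible_tensorPow hLa.1 (m₀ + 1)) eM
  haveI := hZc
  let β : X ⊗ Z ⟶ Z ⊗ X := lift (snd X Z) (fst X Z)
  have hendo : ∀ p p' : Z ⊗ X ⟶ X, lift (fst Z X) p ≫ p' = snd Z X →
      AutSch.endOf (β ≫ p) ≫ AutSch.endOf (β ≫ p') = 𝟙 _ := by
    intro p p' h
    refine CartesianMonoidalCategory.hom_ext _ _ ?_ ?_
    · simp only [Category.assoc, Category.id_comp, AutSch.endOf, lift_fst, lift_fst_assoc]
      rw [← Category.assoc, show lift (β ≫ p) (snd X Z) ≫ β = β ≫ lift (fst Z X) p by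
        refine CartesianMonoidalCategory.hom_ext _ _ ?_ ?_ <;> simp [β], Category.assoc, h, lift_snd]
    · simp [AutSch.endOf]
  have haut : AutSch.IsAutFamily (β ≫ ψ) :=
    ⟨⟨AutSch.endOf (β ≫ ψ'), hendo ψ ψ' h1, hendo ψ' ψ h2⟩⟩
  obtain ⟨gam, hgam, -⟩ := (AutSch.represents_iff G a).1 hG Z _ haut
  have hlift : ∀ g : 𝟙_ (Over (Spec (CommRingCat.of k))) ⟶ G, ∃ t, t ≫ gam = g := by
    intro g
    have hf : ∀ g' : 𝟙_ (Over (Spec (CommRingCat.of k))) ⟶ G,
        Nonempty ((Scheme.Modules.pullback (tr a g').left).obj (CohB1.tensorPow L (m₀ + 1)) ≅ CohB1.tensorPow L (m₀ + 1)) :=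
      fun g' => ⟨M2.pullTensorPowIso (tr a g').left L (m₀ + 1) ≪≫ M2.tensorPowIso (hfix g').some (m₀ + 1)⟩
    obtain ⟨t, ht, -⟩ := hsurj (tr a g) (tr a g⁻¹) (OrbitTop19.tr_inv a g) (OrbitTop19.inv_tr a g) (hf g) (hf g⁻¹)
    refine ⟨t, ((AutSch.represents_iff G a).1 hG (𝟙_ _) (AutSch.famOf a g) ?_).unique ?_ rfl⟩
    · refine ⟨⟨AutSch.endOf (AutSch.famOf a g⁻¹), ?_, ?_⟩⟩ <;>
      · refine CartesianMonoidalCategory.hom_ext _ _ ?_ (toUnit_unique _ _)
        simp only [rightUnitor_famOf, AutSch.endOf, Category.assoc, Category.id_comp, lift_fst, lift_fst_assoc]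
        first
          | rw [OrbitTop19.tr_inv, Category.comp_id]
          | rw [OrbitTop19.inv_tr, Category.comp_id]
    · rw [AutSch.famOf_comp, hgam, rightUnitor_famOf, ← ht, AutSch.pullFam, ← Category.assoc, ← Category.assoc]
      congr 1
      refine CartesianMonoidalCategory.hom_ext _ _ ?_ ?_
      · simp only [β, slice, Category.assoc, lift_fst, whiskerLeft_snd]
        rw [← Category.assoc (fst X _), toUnit_unique (fst X (𝟙_ _) ≫ toUnit X) (snd X (𝟙_ _))]
      · simp [β, slice]
  haveI : JacobsonSpace G.left := LocallyOfFiniteType.jacobsonSpace G.hom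
  have hcl : ∀ y : G.left, IsClosed ({y} : Set G.left) → y ∈ Set.range gam.left := fun y hy => by
    obtain ⟨g, rfl⟩ := OrbitTop19.exists_point G y hy
    obtain ⟨t, rfl⟩ := hlift g
    exact ⟨_, (Scheme.Hom.comp_apply t.left gam.left _).symm⟩
  obtain ⟨S, hS⟩ := (isCompact_range gam.left.continuous).elim_finite_subcover
    (fun V : G.left.affineOpens => (V.1 : Set G.left)) (fun V => V.1.isOpen) (fun y _ => by
      obtain ⟨V, hV, hyV, -⟩ := exists_isAffineOpen_mem_and_subset (X := G.left) (x := y) (U := ⊤) trivial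
      exact Set.mem_iUnion.2 ⟨⟨V, hV⟩, hyV⟩)
  have htop : (⊤ : G.left.Opens) ≤ ⨆ V ∈ S, V.1 := Sumihiro14.opens_le_of_closedPoints fun y hy _ => by
    obtain ⟨V, hV, hyV⟩ := Set.mem_iUnion₂.1 (hS (hcl y hy))
    exact Opens.mem_iSup.2 ⟨V, Opens.mem_iSup.2 ⟨hV, hyV⟩⟩
  haveI : CompactSpace G.left := ⟨by
    have h : (Set.univ : Set G.left) = ⋃ V ∈ S, (V.1 : Set G.left) := by
      refine (Set.eq_univ_of_forall fun y => ?_).symm
      obtain ⟨V, hV⟩ := Opens.mem_iSup.1 (htop (Opens.mem_top y))
      obtain ⟨hV', hy⟩ := Opens.mem_iSup.1 hV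
      exact Set.mem_iUnion₂.2 ⟨V, hV', hy⟩
    rw [h]
    exact S.isCompact_biUnion fun V _ => V.2.isCompact⟩
  exact (quasiCompact_iff_compactSpace G.hom).2 inferInstance

/-- If every automorphism fixes an ample class, the automorphism group scheme is affine. -/
theorem isAffine_and_quasiCompact (hX : RelProj.IsHProjective X.hom) (a : AlgGrp.Action G X)
    (hG : AutSch.Represents X G a) {L : X.left.Modules} (hLa : CohB1.IsAmple L)
    (hfix : ∀ g : 𝟙_ (Over (Spec (CommRingCat.of k))) ⟶ G,
      Nonempty ((Scheme.Modules.pullback (tr a g).left).obj L ≅ L)) :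
    IsAffine G.left ∧ QuasiCompact G.hom := by
  haveI : IsProper X.hom := QuotProj11.isProper_of_isHProjective hX
  haveI := quasiCompact_of_fix_ample a hG hLa hfix
  refine ⟨?_, inferInstance⟩
  haveI := AbRigid.isSeparated_of_grpObj G
  obtain ⟨H, _, r, hrm, hrc, hrs, hred, -⟩ := BorelFix21.exists_reduced_subgroup G
  haveI := hrm
  haveI := hrc
  haveI := hrs
  haveI := hred
  haveI : LocallyOfFiniteType H.hom := by rw [← Over.w r]; infer_instance
  haveI : QuasiCompact H.hom := by rw [← Over.w r]; infer_instance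
  haveI : IsFinite r.left := inferInstance
  haveI : Mono r := Over.mono_of_mono_left r
  let b : AlgGrp.Action H X := ActRestr14.restr r a
  have hb : ∀ g : 𝟙_ (Over (Spec (CommRingCat.of k))) ⟶ H, tr b g = tr a (g ≫ r) :=
    fun g => ActRestr14.tr_restr r a g
  have hinj : ∀ g g' : 𝟙_ (Over (Spec (CommRingCat.of k))) ⟶ G, tr a g = tr a g' → g = g' := by
    intro g g' h
    refine ((AutSch.represents_iff G a).1 hG (𝟙_ _) (AutSch.famOf a g) ?_).unique rfl ?_
    · refine ⟨⟨AutSch.endOf (AutSch.famOf a g⁻¹), ?_, ?_⟩⟩ <;>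
      · refine CartesianMonoidalCategory.hom_ext _ _ ?_ (toUnit_unique _ _)
        simp only [rightUnitor_famOf, AutSch.endOf, Category.assoc, Category.id_comp, lift_fst, lift_fst_assoc]
        first
          | rw [OrbitTop19.tr_inv, Category.comp_id]
          | rw [OrbitTop19.inv_tr, Category.comp_id]
    · rw [rightUnitor_famOf, rightUnitor_famOf, h]
  haveI : IsAffine H.left := AmpleFix14.isAffine_of_fix_ample b (fun g hg => by
    rw [hb] at hg
    have h1 : g ≫ r = 1 := hinj _ _ (by rw [hg, Sumihiro14.tr_one])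
    rw [← cancel_mono r, h1]
    exact (Hom.one_def).trans (by rw [← IsMonHom.one_hom r, Hom.one_def, Category.assoc])) hLa
    (fun g => by rw [hb]; exact hfix _)
  haveI : IsLocallyNoetherian G.left := LocallyOfFiniteType.isLocallyNoetherian G.hom
  haveI : CompactSpace G.left := QuasiCompact.compactSpace_of_compactSpace G.hom
  haveI : IsNoetherian G.left := {}
  exact CohFound.isAffine_of_finite_surjective r.left

end Groth.Agent.AutBound14
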